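import Groth.Agent.Props12.KerReduced
import Mathlib.AlgebraicGeometry.Morphisms.Immersion
import Mathlib.AlgebraicGeometry.Morphisms.Separated

/-!
Immersions into reduced schemes.
-/

universe u

open AlgebraicGeometry CategoryTheory Limits

namespace Groth.Agent.RedSepLib

lemma isIso_of_range_eq_univ {X Y : Scheme.{u}} (f : X ⟶ Y) [IsPreimmersion f] [IsReduced Y]
    (h : Set.range f = Set.univ) : IsIso f := by
  have : IsClosedImmersion f := IsClosedImmersion.of_isPreimmersion f (h ▸ isClosed_univ)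
  have : Surjective f := ⟨Set.range_eq_univ.mp h⟩
  exact isIso_of_isClosedImmersion_of_surjective f

lemma isOpenImmersion_of_isOpen_range {X Y : Scheme.{u}} (f : X ⟶ Y) [IsPreimmersion f]
    [IsReduced Y] (h : IsOpen (Set.range f)) : IsOpenImmersion f := by
  let U : Y.Opens := ⟨_, h⟩
  let g := IsOpenImmersion.lift U.ι f (by simp [U])
  have hg : g ≫ U.ι = f := IsOpenImmersion.lift_fac _ _ _
  have : IsPreimmersion (g ≫ U.ι) := by rw [hg]; infer_instance
  have : IsPreimmersion g := IsPreimmersion.of_comp g U.ι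
  have : IsIso g := isIso_of_range_eq_univ g (by
    refine Set.eq_univ_of_forall fun y => ?_
    obtain ⟨x, hx⟩ := y.2
    refine ⟨x, U.ι.isOpenEmbedding.injective ?_⟩
    rw [← Scheme.Hom.comp_apply, hg, hx]
    rfl)
  rw [← hg]
  infer_instance

lemma exists_lift_of_range_subset {X X' Y : Scheme.{u}} [IsReduced X] (f : X ⟶ Y) (i : X' ⟶ Y)
    [IsImmersion i] (h : Set.range f ⊆ Set.range i) : ∃ g : X ⟶ X', g ≫ i = f := by
  have : IsIso (pullback.fst f i) := isIso_of_range_eq_univ _ (by
    refine Set.eq_univ_of_forall fun x => ?_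
    obtain ⟨z, hz⟩ := h ⟨x, rfl⟩
    obtain ⟨w, hw, -⟩ := Scheme.Pullback.exists_preimage_pullback (f := f) (g := i) x z hz.symm
    exact ⟨w, hw⟩)
  exact ⟨inv (pullback.fst f i) ≫ pullback.snd f i, by
    rw [Category.assoc, ← pullback.condition, IsIso.inv_hom_id_assoc]⟩

end Groth.Agent.RedSepLib
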